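import Cfsg.Agent.Helper71.BSW.Defs

/-!
# S3282 (Brauer–Suzuki–Wall, helper71's farm) piece (K2c): the case `|K| = 2`, `|G| = 60`
-/

set_option autoImplicit false

namespace Cfsg.Agent.Helper13.BSW

open Cfsg.Agent.Helper71.BSW

section

variable {G : Type*} [Group G] [Finite G] {t s : G} {K : Subgroup G}

/-- an element commuting with an involution has order dividing `4` -/
theorem k2c_ord_dvd (h : Hyp t s K) (A1 : FactsA1 t s K) (hk : Nat.card K = 2)
    (a g : G) (ha : orderOf a = 2) (hc : Commute g a) : orderOf g ∣ 4 := by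
  have ha1 : a ≠ 1 := by
    intro h1; rw [h1, orderOf_one] at ha; omega
  obtain ⟨c, hc'⟩ := isConj_iff.1 (h.hconj a t ha h.ht)
  have := A1.orderOf_dvd_of_commute a g ha1 ⟨c, by rw [hc']; exact h.htK⟩ hc
  rwa [hk] at this

/-- an involution normalizing a subgroup of order `5` inverts it -/
theorem k2c_inverts (h : Hyp t s K) (A1 : FactsA1 t s K) (hk : Nat.card K = 2)
    (Q : Subgroup G) (hQ : Nat.card Q = 5) (a : G) (ha : orderOf a = 2)
    (haN : a ∈ Subgroup.normalizer (Q : Set G)) (x : G) (hx : x ∈ Q) : a * x * a⁻¹ = x⁻¹ := by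
  haveI : Fact (Nat.Prime 5) := ⟨by norm_num⟩
  haveI : IsCyclic Q := isCyclic_of_prime_card hQ
  have hcomm : ∀ u ∈ Q, ∀ v ∈ Q, u * v = v * u := by
    intro u hu v hv
    have := IsCyclic.isMulCommutative (α := Q)
    have h2 := this.is_comm.comm ⟨u, hu⟩ ⟨v, hv⟩
    exact congrArg Subtype.val h2
  have hax : a * x * a⁻¹ ∈ Q := (Subgroup.mem_normalizer_iff.1 haN x).1 hx
  have haa : a * a = 1 := by rw [← pow_two, ← ha, pow_orderOf_eq_one]
  have hainv : a⁻¹ = a := inv_eq_of_mul_eq_one_left haa
  set y := x * (a * x * a⁻¹) with hy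
  have hyQ : y ∈ Q := Q.mul_mem hx hax
  have hay : Commute y a := by
    have h1 : a * y * a⁻¹ = y := by
      rw [hy, hcomm x hx _ hax]
      rw [hainv]
      calc a * (a * x * a * x) * a = (a * a) * x * (a * x * a) := by group
        _ = x * (a * x * a) := by rw [haa, one_mul]
        _ = a * x * a * x := (hcomm _ (by rw [hainv] at hax; exact hax) x hx).symm
    have : a * y = y * a := by
      calc a * y = (a * y * a⁻¹) * a := by group
        _ = y * a := by rw [h1]
    exact this.symm
  have h4 := k2c_ord_dvd h A1 hk a y ha hay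
  have h5 : orderOf y ∣ 5 := by
    rw [← hQ]; exact Subgroup.orderOf_dvd_natCard Q hyQ
  have h1 : orderOf y ∣ 1 := by
    have := Nat.dvd_gcd h4 h5
    simpa using this
  have hy1 : y = 1 := orderOf_eq_one_iff.1 (Nat.dvd_one.1 h1)
  rw [hy] at hy1
  exact (inv_eq_of_mul_eq_one_right hy1).symm

/-- the normalizer of a Sylow `5`-subgroup has order `10` -/
theorem k2c_card_normalizer (h : Hyp t s K) (A0 : FactsA0 t s K) (A1 : FactsA1 t s K)
    (hk : Nat.card K = 2) (hG : Nat.card G = 60) [Fact (Nat.Prime 5)] (P : Sylow 5 G) :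
    Nat.card (P : Subgroup G) = 5 ∧
      Nat.card (Subgroup.normalizer ((P : Subgroup G) : Set G)) = 10 := by
  have hP5 : Nat.card (P : Subgroup G) = 5 := by
    obtain ⟨n, hn⟩ := IsPGroup.iff_card.1 P.isPGroup'
    have hidx := (P : Subgroup G).card_mul_index
    rw [hG] at hidx
    have hnd : ¬ 5 ∣ (P : Subgroup G).index := P.not_dvd_index
    have hdvd : 5 ^ n ∣ 60 := by rw [← hn, ← hidx]; exact dvd_mul_right _ _
    have hn1 : n ≤ 1 := by
      by_contra hcon
      push Not at hcon
      have : 5 ^ 2 ∣ 60 := (pow_dvd_pow 5 hcon).trans hdvd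
      omega
    interval_cases n
    · exfalso
      rw [hn] at hidx
      apply hnd
      rw [pow_zero, one_mul] at hidx
      rw [hidx]; norm_num
    · rw [hn]; norm_num
  refine ⟨hP5, ?_⟩
  have hidx := (P : Subgroup G).card_mul_index
  rw [hG, hP5] at hidx
  have hidx12 : (P : Subgroup G).index = 12 := by omega
  have h1 := card_sylow_modEq_one 5 G
  have h2 := P.card_dvd_index
  rw [hidx12] at h2
  have h3 : Nat.card (Sylow 5 G) = (Subgroup.normalizer ((P : Subgroup G) : Set G)).index :=
    P.card_eq_index_normalizer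
  have hle : Nat.card (Sylow 5 G) ≤ 12 := Nat.le_of_dvd (by norm_num) h2
  have hcases : Nat.card (Sylow 5 G) = 1 ∨ Nat.card (Sylow 5 G) = 6 := by
    have key : ∀ m : ℕ, m ≤ 12 → m ∣ 12 → m % 5 = 1 % 5 → m = 1 ∨ m = 6 := by decide
    exact key _ hle h2 h1
  have hNidx := (Subgroup.normalizer ((P : Subgroup G) : Set G)).card_mul_index
  rw [hG, ← h3] at hNidx
  rcases hcases with h6 | h6
  · -- impossible: `P` would be normal
    exfalso
    rw [h6] at h3
    have htop : Subgroup.normalizer ((P : Subgroup G) : Set G) = ⊤ :=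
      Subgroup.index_eq_one.1 h3.symm
    have htN : t ∈ Subgroup.normalizer ((P : Subgroup G) : Set G) := by rw [htop]; trivial
    have hsN : s ∈ Subgroup.normalizer ((P : Subgroup G) : Set G) := by rw [htop]; trivial
    -- a nontrivial element
    have hne : (P : Subgroup G) ≠ ⊥ := by
      intro hb; rw [hb, Subgroup.card_bot] at hP5; omega
    obtain ⟨x, hxP, hx1⟩ : ∃ x : G, x ∈ (P : Subgroup G) ∧ x ≠ 1 := by
      obtain ⟨x, hx⟩ := (Subgroup.ne_bot_iff_exists_ne_one).1 hne
      exact ⟨(x : G), x.2, fun h' => hx (Subtype.ext h')⟩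
    have e1 := k2c_inverts h A1 hk P hP5 t h.ht htN x hxP
    have e2 := k2c_inverts h A1 hk P hP5 s h.hs hsN x⁻¹ ((P : Subgroup G).inv_mem hxP)
    have hst : orderOf (s * t) = 2 := A0.orderOf_s_mul t h.htK
    have hcomm : Commute x (s * t) := by
      have : (s * t) * x * (s * t)⁻¹ = x := by
        calc (s * t) * x * (s * t)⁻¹ = s * (t * x * t⁻¹) * s⁻¹ := by group
          _ = x := by rw [e1, e2, inv_inv]
      have h' : (s * t) * x = x * (s * t) := by
        calc (s * t) * x = ((s * t) * x * (s * t)⁻¹) * (s * t) := by group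
          _ = x * (s * t) := by rw [this]
      exact h'.symm
    have h4 := k2c_ord_dvd h A1 hk (s * t) x hst hcomm
    have h5 : orderOf x ∣ 5 := by
      rw [← hP5]; exact Subgroup.orderOf_dvd_natCard _ hxP
    have h1' : orderOf x ∣ 1 := by
      have := Nat.dvd_gcd h4 h5
      simpa using this
    exact hx1 (orderOf_eq_one_iff.1 (Nat.dvd_one.1 h1'))
  · rw [h6] at hNidx
    omega

end

/-- (K2c) the case `|K| = 2`, `|G| = 60` -/
theorem k2_concl_sixty {G : Type*} [Group G] [Finite G] {t s : G} {K : Subgroup G}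
    (h : Hyp t s K) (A0 : FactsA0 t s K) (A1 : FactsA1 t s K) (hk : Nat.card K = 2)
    (hG : Nat.card G = 60) : Concl G := by
  haveI : Fact (Nat.Prime 5) := ⟨by norm_num⟩
  haveI : Fact (Nat.Prime 2) := ⟨Nat.prime_two⟩
  -- `K = ⟨t⟩`
  have hKt : K = Subgroup.zpowers t := by
    symm
    apply Subgroup.eq_of_le_of_card_ge ((Subgroup.zpowers_le).2 h.htK)
    rw [Nat.card_zpowers, h.ht, hk]
  have hKne : K ≠ ⊥ := by
    intro hb; rw [hb, Subgroup.card_bot] at hk; omega
  -- a Sylow 5-subgroup and an involution in its normalizer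
  obtain ⟨P0⟩ : Nonempty (Sylow 5 G) := inferInstance
  obtain ⟨hP0, hN0⟩ := k2c_card_normalizer h A0 A1 hk hG P0
  obtain ⟨u0, hu0⟩ := exists_prime_orderOf_dvd_card'
    (G := ↥(Subgroup.normalizer ((P0 : Subgroup G) : Set G))) 2 (by rw [hN0]; norm_num)
  have hu0' : orderOf (u0 : G) = 2 := by rw [Subgroup.orderOf_coe]; exact hu0
  obtain ⟨c, hc⟩ := isConj_iff.1 (h.hconj t u0 h.ht hu0')
  -- conjugate the Sylow subgroup so that `t` normalizes it
  set P : Sylow 5 G := c⁻¹ • P0 with hPdef
  have hu0P : (u0 : G) • P0 = P0 := Sylow.smul_eq_iff_mem_normalizer.2 u0.2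
  have htP : t • P = P := by
    have e : t * c⁻¹ = c⁻¹ * (u0 : G) := by
      rw [← hc]; group
    rw [hPdef, ← mul_smul, e, mul_smul, hu0P]
  have htN : t ∈ Subgroup.normalizer ((P : Subgroup G) : Set G) :=
    Sylow.smul_eq_iff_mem_normalizer.1 htP
  obtain ⟨hP5, hN10⟩ := k2c_card_normalizer h A0 A1 hk hG P
  have hKN : K ≤ Subgroup.normalizer ((P : Subgroup G) : Set G) := by
    rw [hKt]; exact (Subgroup.zpowers_le).2 htN
  -- `s` normalizes `K`
  have hss : s * s = 1 := by rw [← pow_two, ← h.hs, pow_orderOf_eq_one]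
  have hsinv : s⁻¹ = s := inv_eq_of_mul_eq_one_left hss
  have hsN : s ∈ Subgroup.normalizer (K : Set G) := by
    rw [Subgroup.mem_normalizer_iff]
    intro y
    constructor
    · intro hy; rw [h.hinv y hy]; exact K.inv_mem hy
    · intro hy
      have h1 := h.hinv _ hy
      have h2 : s * (s * y * s⁻¹) * s⁻¹ = y := by
        rw [hsinv]
        calc s * (s * y * s) * s = (s * s) * y * (s * s) := by group
          _ = y := by rw [hss, one_mul, mul_one]
      rw [h2] at h1
      rw [h1]; exact K.inv_mem hy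
  refine ⟨(P : Subgroup G), K, ?_, ?_, ?_, ?_, ?_, ?_, ?_⟩
  · rw [hG, hP5]
  · intro x hx hx1
    have hox : orderOf x = 5 := by
      have hd : orderOf x ∣ 5 := by
        have := Subgroup.orderOf_dvd_natCard _ hx
        rwa [hP5] at this
      rcases (Nat.dvd_prime (by norm_num : Nat.Prime 5)).1 hd with h' | h'
      · exact absurd (orderOf_eq_one_iff.1 h') hx1
      · exact h'
    have hzp : Subgroup.zpowers x = (P : Subgroup G) := by
      apply Subgroup.eq_of_le_of_card_ge ((Subgroup.zpowers_le).2 hx)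
      rw [Nat.card_zpowers, hox, hP5]
    have hcomm : ∀ g ∈ Subgroup.centralizer ({x} : Set G), ∀ y ∈ (P : Subgroup G),
        g * y = y * g := by
      intro g hg y hy
      rw [← hzp] at hy
      obtain ⟨k, rfl⟩ := Subgroup.mem_zpowers_iff.1 hy
      have hgx : Commute g x := by
        have := Subgroup.mem_centralizer_iff.1 hg x (Set.mem_singleton x)
        exact this.symm
      exact (hgx.zpow_right k)
    have hQle : (P : Subgroup G) ≤ Subgroup.centralizer ({x} : Set G) := by
      intro y hy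
      rw [← hzp] at hy
      obtain ⟨k, rfl⟩ := Subgroup.mem_zpowers_iff.1 hy
      rw [Subgroup.mem_centralizer_iff]
      intro z hz
      rw [Set.mem_singleton_iff] at hz
      subst hz
      exact ((Commute.refl z).zpow_right k)
    have hCleN : Subgroup.centralizer ({x} : Set G) ≤
        Subgroup.normalizer ((P : Subgroup G) : Set G) := by
      intro g hg
      rw [Subgroup.mem_normalizer_iff]
      intro y
      constructor
      · intro hy
        have := hcomm g hg y hy
        rw [this, mul_inv_cancel_right]; exact hy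
      · intro hy
        have hg' : g⁻¹ ∈ Subgroup.centralizer ({x} : Set G) := Subgroup.inv_mem _ hg
        have := hcomm g⁻¹ hg' _ hy
        have e : y = g⁻¹ * (g * y * g⁻¹) * g := by group
        rw [e, this, mul_assoc, inv_mul_cancel, mul_one]; exact hy
    have hd10 : Nat.card (Subgroup.centralizer ({x} : Set G)) ∣ 10 := by
      rw [← hN10]; exact Subgroup.card_dvd_of_le hCleN
    have hd5 : 5 ∣ Nat.card (Subgroup.centralizer ({x} : Set G)) := by
      have := Subgroup.card_dvd_of_le hQle
      rwa [hP5] at this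
    have hodd : ¬ 2 ∣ Nat.card (Subgroup.centralizer ({x} : Set G)) := by
      intro h2
      obtain ⟨a, ha⟩ := exists_prime_orderOf_dvd_card'
        (G := ↥(Subgroup.centralizer ({x} : Set G))) 2 h2
      have ha' : orderOf (a : G) = 2 := by rw [Subgroup.orderOf_coe]; exact ha
      have hax : Commute x (a : G) := by
        have := Subgroup.mem_centralizer_iff.1 a.2 x (Set.mem_singleton x)
        exact this
      have h4 := k2c_ord_dvd h A1 hk (a : G) x ha' hax
      rw [hox] at h4
      omega
    have hc5 : Nat.card (Subgroup.centralizer ({x} : Set G)) = 5 := by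
      have key : ∀ m : ℕ, m ≤ 10 → m ∣ 10 → 5 ∣ m → ¬ 2 ∣ m → m = 5 := by decide
      exact key _ (Nat.le_of_dvd (by norm_num) hd10) hd10 hd5 hodd
    exact (Subgroup.eq_of_le_of_card_ge hQle (by rw [hc5, hP5])).symm
  · exact ⟨⟨fun a b => Subtype.ext (h.hKab a a.2 b b.2)⟩⟩
  · rw [hk, hP5]
  · apply Disjoint.eq_bot
    apply Subgroup.disjoint_of_coprime_natCard
    rw [hk, hP5]; norm_num
  · symm
    apply Subgroup.eq_of_le_of_card_ge (sup_le Subgroup.le_normalizer hKN)
    rw [hN10]
    have h5 : 5 ∣ Nat.card ((P : Subgroup G) ⊔ K : Subgroup G) := by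
      have := Subgroup.card_dvd_of_le (le_sup_left : (P : Subgroup G) ≤ (P : Subgroup G) ⊔ K)
      rwa [hP5] at this
    have h2 : 2 ∣ Nat.card ((P : Subgroup G) ⊔ K : Subgroup G) := by
      have := Subgroup.card_dvd_of_le (le_sup_right : K ≤ (P : Subgroup G) ⊔ K)
      rwa [hk] at this
    have h10 : 10 ∣ Nat.card ((P : Subgroup G) ⊔ K : Subgroup G) :=
      Nat.Coprime.mul_dvd_of_dvd_of_dvd (by norm_num : Nat.Coprime 2 5) h2 h5
    exact Nat.le_of_dvd Nat.card_pos h10
  · intro X hX hXne
    have hXK : X = K := by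
      apply Subgroup.eq_of_le_of_card_ge hX
      have hd : Nat.card X ∣ 2 := by rw [← hk]; exact Subgroup.card_dvd_of_le hX
      have h1 : Nat.card X ≠ 1 := by
        intro h1; exact hXne (Subgroup.card_eq_one.1 h1)
      rw [hk]
      rcases (Nat.dvd_prime Nat.prime_two).1 hd with h' | h'
      · exact absurd h' h1
      · omega
    subst hXK
    refine ⟨rfl, s, h.hs, h.hsK, h.hinv, ?_⟩
    rw [h.hH]
    apply le_antisymm (A0.normalizer_le_cent_t X le_rfl hKne)
    rw [← h.hH]
    exact sup_le Subgroup.le_normalizer ((Subgroup.zpowers_le).2 hsN)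

end Cfsg.Agent.Helper13.BSW
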